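import Groth.Agent.H6.DerivedProd
import Groth.Agent.H33.KInj.Main
import Groth.Agent.H33.SheafMod.Grothendieck
import Groth.Prelude.Def_SiteCmp

/-!
# Small products in `D(A)` for a Grothendieck abelian category, any universe of the derived category (helper45)
-/

set_option autoImplicit false
universe w v u
open CategoryTheory CategoryTheory.Limits

namespace Groth.Agent.H45.RlimModW

/-- Small products exist in `D(A)`, `A` Grothendieck abelian (universe-general variant of S0478). -/
lemma hasProduct_derived {A : Type u} [Category.{v} A] [Abelian A] [IsGrothendieckAbelian.{v} A]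
    [HasDerivedCategory.{w} A] {ι : Type v} (K : ι → DerivedCategory A) : HasProduct K := by
  choose I f hI hf _ _ using fun j : ι => Groth.Agent.H33.KInj.exists_kInjective_resolution
    ((DerivedCategory.Q : _ ⥤ DerivedCategory A).objPreimage (K j))
  have e : ∀ j, (DerivedCategory.Q : _ ⥤ DerivedCategory A).obj (I j) ≅ K j := fun j => by
    have := hf j
    exact (asIso (DerivedCategory.Q.map (f j))).symm ≪≫
      (DerivedCategory.Q : _ ⥤ DerivedCategory A).objObjPreimageIso (K j)
  exact Groth.Agent.H6.DerivedProd.hasProduct_of_iso (Fan.mk (∏ᶜ I) (Pi.π I))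
    (productIsProduct I) hI K e

/-- Countable products in `D(Mod O)`. -/
lemma hasProduct_derived_mod {C : Type u} [SmallCategory C] {J : GrothendieckTopology C}
    (O : Sheaf J CommRingCat.{u}) [HasDerivedCategory.{w} (ModSite.Mod O)]
    (K : ℕ → DerivedCategory (ModSite.Mod O)) : HasProduct K := by
  haveI : IsGrothendieckAbelian.{u} (ModSite.Mod O) :=
    Groth.Agent.H33.SheafMod.isGrothendieckAbelian J (ModSite.ringSh O)
  let K' : ULift.{u} ℕ → DerivedCategory (ModSite.Mod O) := fun n => K n.down
  haveI : HasProduct K' := hasProduct_derived K'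
  exact hasProduct_of_equiv_of_iso K' K Equiv.ulift.symm (fun n => Iso.refl _)

end Groth.Agent.H45.RlimModW
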