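import Groth.Agent.H45.RlimModW.CoreO

/-!
# Vanishing of a cohomology sheaf from vanishing of the cohomology groups on a basis (helper45)

If `H^q(V, Z) = Hom(j_{V!}O[0], Z[q])` vanishes for all members `V` of a class `B` of objects covering every object,
then the cohomology sheaf `H^q(Z)` vanishes.
-/

set_option autoImplicit false
universe w u
open CategoryTheory CategoryTheory.Limits Opposite CochainComplex HomComplex DerivedCategory

namespace Groth.Agent.H45.RlimModW

open Groth.Agent.H16 Groth.Agent.H45.RlimMod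

variable {C : Type u} [SmallCategory C] {J : GrothendieckTopology C} (O : Sheaf J CommRingCat.{u})
  [HasDerivedCategory.{w} (ModSite.Mod O)]

lemma isZero_of_isZero_toSh (M : ModSite.Mod O) (h : IsZero ((toSh O).obj M)) : IsZero M := by
  rw [IsZero.iff_id_eq_zero]
  apply (toSh O).map_injective
  rw [Functor.map_zero]
  exact h.eq_of_src _ _

lemma isZero_sheaf_of_sections (F : Sheaf J AddCommGrpCat.{u})
    (h : ∀ (V : C) (s : F.obj.obj (op V)), s = 0) : IsZero F := by
  rw [IsZero.iff_id_eq_zero]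
  apply Sheaf.hom_ext
  apply NatTrans.ext
  funext V
  apply AddCommGrpCat.hom_ext
  ext s
  exact (h V.unop s).trans (h V.unop _).symm

/-- **Vanishing of `H^q(Z)` from vanishing of `H^q(V, Z)` on a basis.** -/
theorem isZero_homology_of_subsingleton_HDUO (Z : DerivedCategory (ModSite.Mod O)) (q : ℤ)
    (B : Set C)
    (hB : ∀ U : C, ∃ (ι : Type u) (Y : ι → C) (g : ∀ i, Y i ⟶ U),
      Sieve.ofArrows Y g ∈ J U ∧ ∀ i, Y i ∈ B)
    (h : ∀ V ∈ B, Subsingleton (HDUO O Z q V)) :
    IsZero ((DerivedCategory.homologyFunctor (ModSite.Mod O) q).obj Z) := by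
  have : IsGrothendieckAbelian.{u} (ModSite.Mod O) :=
    Groth.Agent.H33.SheafMod.isGrothendieckAbelian J (ModSite.ringSh O)
  obtain ⟨I, fI, hI, hfI, -, -⟩ := H33.KInj.exists_kInjective_resolution (Q.objPreimage Z)
  have : IsIso (Q.map fI) :=
    (DerivedCategory.isIso_Q_map_iff_quasiIso (C := ModSite.Mod O) fI).2 hfI
  let e : Z ≅ Q.obj I := (Q.objObjPreimageIso Z).symm ≪≫ asIso (Q.map fI)
  let H := DerivedCategory.homologyFunctor (ModSite.Mod O) q
  let β : H.obj Z ≅ (I.sc q).homology :=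
    H.mapIso e ≪≫ (DerivedCategory.homologyFunctorFactors (ModSite.Mod O) q).app I
  let S := (I.sc q).map (toSh O)
  let α : HDO O Z q ≅ S.homology :=
    (toSh O).mapIso β ≪≫ ((I.sc q).mapHomologyIso (toSh O)).symm
  apply isZero_of_isZero_toSh
  refine IsZero.of_iso ?_ α
  apply isZero_sheaf_of_sections
  intro V s
  obtain ⟨T, hT, hT'⟩ := local_injective (0 : S ⟶ S) (fun Y => Y ∈ B) (by
    intro Y hY x hx _
    have hsub : Subsingleton (HDUO O (Q.obj I) q Y) := by
      have := h Y hY
      exact ⟨fun a b => by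
        have h1 : a ≫ (e.inv)⟦q⟧' = b ≫ (e.inv)⟦q⟧' := Subsingleton.elim _ _
        exact (cancel_mono _).1 h1⟩
    have h1 : clsO I q Y _ (next_eq q) x hx = 0 := Subsingleton.elim _ _
    exact (clsO_eq_zero_iff I q Y _ (next_eq q) x hx _ (prev_eq q)).1 h1) V s (by
    rw [ShortComplex.homologyMap_zero]
    rfl)
  refine RlimInjB.eq_zero_of_cover J _ V s T hT ?_
  intro W f hf
  obtain ⟨ι, Y, g, hcov, hYB⟩ := hB W
  refine RlimInjB.eq_zero_of_cover J _ W _ (Sieve.ofArrows Y g) hcov ?_
  intro W' g' hg'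
  obtain ⟨i, u, rfl⟩ := (Sieve.mem_ofArrows_iff Y g g').1 hg'
  have h1 : (S.homology.obj.map (g i ≫ f).op).hom s = 0 :=
    hT' (g i ≫ f) (T.downward_closed hf (g i)) (hYB i)
  have h2 : (S.homology.obj.map (u ≫ g i).op).hom ((S.homology.obj.map f.op).hom s) =
      (S.homology.obj.map u.op).hom ((S.homology.obj.map (g i ≫ f).op).hom s) := by
    rw [op_comp, op_comp, Functor.map_comp, Functor.map_comp]
    rfl
  rw [h2, h1, map_zero]

end Groth.Agent.H45.RlimModW
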