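import Groth.Agent.H30.KInjCls
import Groth.Agent.H16.RlimInjC
import Groth.Agent.H45.QC.FreeOnHom

/-!
# Classes of cycle sections of a K-injective complex of modules on a ringed site (helper45)

(universe-generalised copy of `H45/RlimMod/ClassO.lean`: any `HasDerivedCategory.{w}`)

For a complex `I` of `O`-modules, an object `Y` and a section `x ∈ I^q(Y)` killed by the differential, the class
`clsO I q Y x ∈ Hom_{D(O)}(j_{Y!}O_Y[0], I[q])`.  For `I` K-injective it vanishes iff `x` is a boundary.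
(module version of `Groth.Agent.H30.HDSheafify.c`)
-/

set_option autoImplicit false
universe w u
open CategoryTheory CategoryTheory.Limits Opposite CochainComplex HomComplex DerivedCategory

namespace Groth.Agent.H45.RlimModW

open Groth.Agent.H30
open Groth.Agent.H31 (freeOnHomEquiv freeOnHomEquiv_naturality freeOnHomEquiv_symm_naturality)

variable {C : Type u} [SmallCategory C] {J : GrothendieckTopology C} (O : Sheaf J CommRingCat.{u})
  [HasDerivedCategory.{w} (ModSite.Mod O)]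

/-- the object `j_{Y!}O_Y[0]` of the derived category of `O`-modules. -/
noncomputable abbrev ZO (Y : C) : DerivedCategory (ModSite.Mod O) :=
  Q.obj ((CochainComplex.singleFunctor (ModSite.Mod O) 0).obj (ModSite.freeOn O Y))

/-- `H^m(Y, K)` for an object `K` of `D(O)`. -/
abbrev HDUO (K : DerivedCategory (ModSite.Mod O)) (m : ℤ) (Y : C) : Type w :=
  ZO O Y ⟶ K⟦m⟧

variable {O}

section
variable (I : CochainComplex (ModSite.Mod O) ℤ) (q : ℤ) (Y : C)

/-- the morphism `j_{Y!}O_Y ⟶ I^q` attached to a section. -/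
noncomputable def homOf (x : (I.X q).val.obj (op Y)) : ModSite.freeOn O Y ⟶ I.X q :=
  (freeOnHomEquiv O Y (I.X q)).symm x

lemma homOf_comp (q' : ℤ) (x : (I.X q).val.obj (op Y)) :
    homOf I q Y x ≫ I.d q q' = homOf I q' Y ((I.d q q').val.app (op Y) x) :=
  (freeOnHomEquiv_symm_naturality O Y x (I.d q q')).symm

lemma homOf_zero : homOf I q Y 0 = 0 :=
  (Groth.Agent.H45.QC.freeOnHomAddEquiv O Y (I.X q)).symm.map_zero

lemma homOf_comp_d (q' : ℤ) (x : (I.X q).val.obj (op Y))
    (hx : (I.d q q').val.app (op Y) x = 0) : homOf I q Y x ≫ I.d q q' = 0 := by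
  rw [homOf_comp, hx, homOf_zero]

lemma freeOnHomEquiv_homOf (x : (I.X q).val.obj (op Y)) :
    freeOnHomEquiv O Y (I.X q) (homOf I q Y x) = x :=
  Equiv.apply_symm_apply _ _

/-- the class of a cycle section. -/
noncomputable def clsO (q' : ℤ) (hq' : q + 1 = q') (x : (I.X q).val.obj (op Y))
    (hx : (I.d q q').val.app (op Y) x = 0) : HDUO O (Q.obj I) q Y :=
  KInjCls.cls q' hq' (homOf I q Y x) (homOf_comp_d I q Y q' x hx)

lemma clsO_eq_zero_iff [I.IsKInjective] (q' : ℤ) (hq' : q + 1 = q') (x : (I.X q).val.obj (op Y))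
    (hx : (I.d q q').val.app (op Y) x = 0) (q'' : ℤ) (hq'' : q'' + 1 = q) :
    clsO I q Y q' hq' x hx = 0 ↔
      ∃ y : (I.X q'').val.obj (op Y), (I.d q'' q).val.app (op Y) y = x := by
  dsimp only [clsO]
  rw [KInjCls.cls_eq_zero_iff q' hq' _ _ q'' hq'']
  constructor
  · rintro ⟨g, hg⟩
    refine ⟨freeOnHomEquiv O Y _ g, ?_⟩
    rw [← freeOnHomEquiv_naturality, hg, freeOnHomEquiv_homOf]
  · rintro ⟨y, hy⟩
    refine ⟨homOf I q'' Y y, ?_⟩
    rw [homOf_comp, hy]

lemma clsO_congr (q' : ℤ) (hq' : q + 1 = q') {x y : (I.X q).val.obj (op Y)} (h : x = y)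
    (hx : (I.d q q').val.app (op Y) x = 0) (hy : (I.d q q').val.app (op Y) y = 0) :
    clsO I q Y q' hq' x hx = clsO I q Y q' hq' y hy := by
  subst h
  rfl

lemma homOf_add (x y : (I.X q).val.obj (op Y)) :
    homOf I q Y (x + y) = homOf I q Y x + homOf I q Y y :=
  (Groth.Agent.H45.QC.freeOnHomAddEquiv O Y (I.X q)).symm.map_add x y

lemma clsO_add (q' : ℤ) (hq' : q + 1 = q') (x y : (I.X q).val.obj (op Y))
    (hx : (I.d q q').val.app (op Y) x = 0) (hy : (I.d q q').val.app (op Y) y = 0)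
    (hxy : (I.d q q').val.app (op Y) (x + y) = 0) :
    clsO I q Y q' hq' (x + y) hxy = clsO I q Y q' hq' x hx + clsO I q Y q' hq' y hy := by
  dsimp only [clsO]
  refine (KInjCls.cls_congr _ hq' (homOf_add I q Y x y) _ (by
    rw [CategoryTheory.Preadditive.add_comp, homOf_comp_d I q Y q' x hx,
      homOf_comp_d I q Y q' y hy, add_zero])).trans ?_
  exact KInjCls.cls_add _ hq' _ _ (homOf_comp_d I q Y q' x hx) (homOf_comp_d I q Y q' y hy)

lemma clsO_surjective [I.IsKInjective] (q' : ℤ) (hq' : q + 1 = q') (α : HDUO O (Q.obj I) q Y) :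
    ∃ (x : (I.X q).val.obj (op Y)) (hx : (I.d q q').val.app (op Y) x = 0),
      clsO I q Y q' hq' x hx = α := by
  obtain ⟨φ, hφ, rfl⟩ := KInjCls.cls_surjective q' hq' α
  have hx : (I.d q q').val.app (op Y) (freeOnHomEquiv O Y (I.X q) φ) = 0 := by
    rw [← freeOnHomEquiv_naturality, hφ]
    exact (Groth.Agent.H45.QC.freeOnHomAddEquiv O Y (I.X q')).map_zero
  refine ⟨freeOnHomEquiv O Y (I.X q) φ, hx, ?_⟩
  dsimp only [clsO]
  exact KInjCls.cls_congr _ hq' (Equiv.symm_apply_apply _ φ) _ _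

end

lemma clsO_postcomp {I I' : CochainComplex (ModSite.Mod O) ℤ} (g : I ⟶ I') (q : ℤ) (Y : C)
    (q' : ℤ) (hq' : q + 1 = q')
    (x : (I.X q).val.obj (op Y)) (hx : (I.d q q').val.app (op Y) x = 0)
    (hx' : (I'.d q q').val.app (op Y) ((g.f q).val.app (op Y) x) = 0) :
    clsO I' q Y q' hq' ((g.f q).val.app (op Y) x) hx' =
      clsO I q Y q' hq' x hx ≫ (Q.map g)⟦q⟧' := by
  dsimp only [clsO]
  have h1 : homOf I' q Y ((g.f q).val.app (op Y) x) = homOf I q Y x ≫ g.f q :=
    freeOnHomEquiv_symm_naturality O Y x (g.f q)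
  refine (KInjCls.cls_congr _ hq' h1 _ (by
    rw [Category.assoc, g.comm, ← Category.assoc, homOf_comp_d I q Y q' x hx,
      zero_comp])).trans ?_
  exact Groth.Agent.H16.RlimInjC.cls_postcomp _ hq' (homOf I q Y x)
    (homOf_comp_d I q Y q' x hx) g

/-- a cycle section is sent to a cycle section by a chain map. -/
lemma map_cycle {I I' : CochainComplex (ModSite.Mod O) ℤ} (g : I ⟶ I') (q q' : ℤ) (Y : C)
    (x : (I.X q).val.obj (op Y)) (hx : (I.d q q').val.app (op Y) x = 0) :
    (I'.d q q').val.app (op Y) ((g.f q).val.app (op Y) x) = 0 := by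
  have h1 : (g.f q ≫ I'.d q q').val.app (op Y) x = (I.d q q' ≫ g.f q').val.app (op Y) x := by
    rw [g.comm]
  have h2 : (g.f q').val.app (op Y) ((I.d q q').val.app (op Y) x) = 0 := by
    rw [hx, map_zero]
  exact h1.trans h2

end Groth.Agent.H45.RlimModW
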