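import Groth.Agent.H45.RlimMod.LocalInj
import Groth.Agent.H45.RlimModW.ClassO
import Groth.Agent.H16.RlimInjA
import Groth.Agent.H33.KInj.Main
import Groth.Agent.H33.SheafMod.Grothendieck
import Groth.Agent.H45.SheafTensor.ToSheaf

/-!
# Local injectivity of `H^m(L) → H^m(K_N)` for a derived limit in `D(O)` of a ringed site (helper45)

Module version of helper16's `RlimInjD.core`.
(universe-generalised copy of `H45/RlimMod/CoreO.lean`: any `HasDerivedCategory.{w}`)
-/

set_option autoImplicit false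
universe w u
open CategoryTheory CategoryTheory.Limits Opposite CochainComplex HomComplex DerivedCategory

namespace Groth.Agent.H45.RlimModW

open Groth.Agent.H16 Groth.Agent.H45.RlimMod

variable {C : Type u} [SmallCategory C] {J : GrothendieckTopology C} (O : Sheaf J CommRingCat.{u})
  [HasDerivedCategory.{w} (ModSite.Mod O)]

/-- The Milnor-type hypotheses on an object `Y`. -/
def HypO (K : ℕ → DerivedCategory (ModSite.Mod O)) (t : ∀ n, K (n + 1) ⟶ K n)
    (m : ℤ) (N : ℕ) (Y : C) : Prop :=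
  CohCx.LimOneIsZero (fun n => HDUO O (K n) (m - 1) Y)
      (fun n => Preadditive.rightComp _ ((CategoryTheory.shiftFunctor _ (m - 1)).map (t n))) ∧
    ∀ k : ℕ, Function.Injective
      (Preadditive.rightComp _ ((CategoryTheory.shiftFunctor _ m).map (CohCx.transition K t N k)) :
        HDUO O (K (N + k)) m Y → HDUO O (K N) m Y)

/-- the underlying abelian sheaf functor. -/
noncomputable abbrev toSh : ModSite.Mod O ⥤ Sheaf J AddCommGrpCat.{u} :=
  SheafOfModules.toSheaf.{u} (ModSite.ringSh O)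

/-- the (underlying abelian sheaf of the) cohomology sheaf of an object of `D(O)`. -/
noncomputable abbrev HDO (L : DerivedCategory (ModSite.Mod O)) (m : ℤ) :
    Sheaf J AddCommGrpCat.{u} :=
  (toSh O).obj ((DerivedCategory.homologyFunctor (ModSite.Mod O) m).obj L)

lemma next_eq (q : ℤ) : q + 1 = (ComplexShape.up ℤ).next q := (CochainComplex.next ℤ q).symm
lemma prev_eq (q : ℤ) : (ComplexShape.up ℤ).prev q + 1 = q := by simp

section chain

variable (K : ℕ → DerivedCategory (ModSite.Mod O)) (t : ∀ n, K (n + 1) ⟶ K n)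
  [HasProduct K] (L : DerivedCategory (ModSite.Mod O)) (a : ∀ n, L ⟶ K n)
  (hL : CohCx.IsRlimVia K t L a) (m : ℤ) (N : ℕ)
  (IL IN : CochainComplex (ModSite.Mod O) ℤ) [IL.IsKInjective] [IN.IsKInjective]
  (eL : L ≅ Q.obj IL) (eN : K N ≅ Q.obj IN) (φ : IL ⟶ IN)
  (hφ : Q.map φ = eL.inv ≫ a N ≫ eN.hom)

include hL hφ in
/-- on an object satisfying the hypotheses, a cycle of `IL` whose image in `IN` is a boundary is itself a
boundary. -/
lemma boundary_of_map_boundary (Y : C) (hY : HypO O K t m N Y)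
    (q' : ℤ) (hq' : m + 1 = q') (q'' : ℤ) (hq'' : q'' + 1 = m)
    (x : (IL.X m).val.obj (op Y)) (hx : (IL.d m q').val.app (op Y) x = 0)
    (hb : ∃ b : (IN.X q'').val.obj (op Y),
      (IN.d q'' m).val.app (op Y) b = (φ.f m).val.app (op Y) x) :
    ∃ y : (IL.X q'').val.obj (op Y), (IL.d q'' m).val.app (op Y) y = x := by
  have hx' := map_cycle φ m q' Y x hx
  have h1 : clsO IN m Y q' hq' _ hx' = 0 := (clsO_eq_zero_iff IN m Y q' hq' _ hx' q'' hq'').2 hb
  rw [clsO_postcomp φ m Y q' hq' x hx hx'] at h1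
  let y : HDUO O L m Y := clsO IL m Y q' hq' x hx ≫ (eL.inv)⟦m⟧'
  have hy : y ≫ (a N)⟦m⟧' = 0 := by
    have h2 : eL.inv ≫ a N = Q.map φ ≫ eN.inv := by
      rw [hφ, Category.assoc, Category.assoc, Iso.hom_inv_id, Category.comp_id]
    change (clsO IL m Y q' hq' x hx ≫ (eL.inv)⟦m⟧') ≫ (a N)⟦m⟧' = 0
    rw [Category.assoc, ← Functor.map_comp, h2, Functor.map_comp, ← Category.assoc, h1, zero_comp]
  have hy0 : y = 0 :=
    RlimInjA.eq_zero_of_comp_eq_zero hL _ m N hY.1 (fun k => hY.2 k) y hy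
  have h3 : clsO IL m Y q' hq' x hx = 0 := by
    have h4 : clsO IL m Y q' hq' x hx = y ≫ (eL.hom)⟦m⟧' := by
      change _ = (clsO IL m Y q' hq' x hx ≫ (eL.inv)⟦m⟧') ≫ (eL.hom)⟦m⟧'
      rw [Category.assoc, ← Functor.map_comp, Iso.inv_hom_id, CategoryTheory.Functor.map_id,
        Category.comp_id]
    rw [h4, hy0]
    exact zero_comp
  exact (clsO_eq_zero_iff IL m Y q' hq' x hx q'' hq'').1 h3

end chain

/-- **Local injectivity**: a section of `H^m(L)` over `V` dying in `H^m(K_N)` vanishes on every member of a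
suitable covering sieve which satisfies the Milnor-type hypotheses. -/
theorem core (K : ℕ → DerivedCategory (ModSite.Mod O)) (t : ∀ n, K (n + 1) ⟶ K n)
    [HasProduct K] (L : DerivedCategory (ModSite.Mod O)) (a : ∀ n, L ⟶ K n)
    (hL : CohCx.IsRlimVia K t L a) (V : C) (m : ℤ) (N : ℕ)
    (s : (HDO O L m).obj.obj (op V))
    (hs : (((toSh O).map ((DerivedCategory.homologyFunctor _ m).map (a N))).hom.app (op V)).hom s
      = 0) :
    ∃ T : Sieve V, T ∈ J V ∧ ∀ ⦃Y : C⦄ (f : Y ⟶ V), T.arrows f → HypO O K t m N Y →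
      ((HDO O L m).obj.map f.op).hom s = 0 := by
  have : IsGrothendieckAbelian.{u} (ModSite.Mod O) :=
    Groth.Agent.H33.SheafMod.isGrothendieckAbelian J (ModSite.ringSh O)
  obtain ⟨IL, fL, hIL, hfL, -, -⟩ := H33.KInj.exists_kInjective_resolution (Q.objPreimage L)
  obtain ⟨IN, fN, hIN, hfN, -, -⟩ := H33.KInj.exists_kInjective_resolution (Q.objPreimage (K N))
  have : IsIso (Q.map fL) :=
    (DerivedCategory.isIso_Q_map_iff_quasiIso (C := ModSite.Mod O) fL).2 hfL
  have : IsIso (Q.map fN) :=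
    (DerivedCategory.isIso_Q_map_iff_quasiIso (C := ModSite.Mod O) fN).2 hfN
  let eL : L ≅ Q.obj IL := (Q.objObjPreimageIso L).symm ≪≫ asIso (Q.map fL)
  let eN : K N ≅ Q.obj IN := (Q.objObjPreimageIso (K N)).symm ≪≫ asIso (Q.map fN)
  obtain ⟨φ, hφ⟩ := RlimInjC.exists_Q_map_eq IL IN (eL.inv ≫ a N ≫ eN.hom)
  let H := DerivedCategory.homologyFunctor (ModSite.Mod O) m
  let βL : H.obj L ≅ (IL.sc m).homology :=
    H.mapIso eL ≪≫ (DerivedCategory.homologyFunctorFactors (ModSite.Mod O) m).app IL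
  let βN : H.obj (K N) ≅ (IN.sc m).homology :=
    H.mapIso eN ≪≫ (DerivedCategory.homologyFunctorFactors (ModSite.Mod O) m).app IN
  let φm : IL.sc m ⟶ IN.sc m := (HomologicalComplex.shortComplexFunctor _ _ m).map φ
  have hnat0 : H.map (a N) ≫ βN.hom = βL.hom ≫ ShortComplex.homologyMap φm := by
    have h1 : a N ≫ eN.hom = eL.hom ≫ Q.map φ := by
      rw [hφ, Iso.hom_inv_id_assoc]
    have h2 := (DerivedCategory.homologyFunctorFactors (ModSite.Mod O) m).hom.naturality φ
    change H.map (a N) ≫ H.map eN.hom ≫ _ = (H.map eL.hom ≫ _) ≫ _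
    rw [← Category.assoc, ← Functor.map_comp, h1, Functor.map_comp, Category.assoc, Category.assoc]
    congr 1
  let S := (IL.sc m).map (toSh O)
  let S' := (IN.sc m).map (toSh O)
  let Φ : S ⟶ S' := (toSh O).mapShortComplex.map φm
  let αL : HDO O L m ≅ S.homology :=
    (toSh O).mapIso βL ≪≫ ((IL.sc m).mapHomologyIso (toSh O)).symm
  let αN : HDO O (K N) m ≅ S'.homology :=
    (toSh O).mapIso βN ≪≫ ((IN.sc m).mapHomologyIso (toSh O)).symm
  have hnat : (toSh O).map (H.map (a N)) ≫ αN.hom = αL.hom ≫ ShortComplex.homologyMap Φ := by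
    change (toSh O).map (H.map (a N)) ≫ (toSh O).map βN.hom ≫
        ((IN.sc m).mapHomologyIso (toSh O)).inv =
      ((toSh O).map βL.hom ≫ ((IL.sc m).mapHomologyIso (toSh O)).inv) ≫ ShortComplex.homologyMap Φ
    rw [← Category.assoc, ← Functor.map_comp, hnat0, Functor.map_comp, Category.assoc,
      Category.assoc]
    congr 1
    exact ShortComplex.mapHomologyIso_inv_naturality φm (toSh O)
  let s' : S.homology.obj.obj (op V) := (αL.hom.hom.app (op V)).hom s
  have hs' : ((ShortComplex.homologyMap Φ).hom.app (op V)).hom s' = 0 := by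
    change ((ShortComplex.homologyMap Φ).hom.app (op V)).hom ((αL.hom.hom.app (op V)).hom s) = 0
    rw [← RlimInjB.comp_apply' J, ← hnat, RlimInjB.comp_apply' J]
    have : (((toSh O).map (H.map (a N))).hom.app (op V)).hom s = 0 := hs
    rw [this, map_zero]
  obtain ⟨T, hT, h⟩ := local_injective Φ (HypO O K t m N) (by
    intro Y hY x hx hb
    exact boundary_of_map_boundary O K t L a hL m N IL IN eL eN φ hφ Y hY _ (next_eq m) _
      (prev_eq m) x hx hb) V s' hs'
  refine ⟨T, hT, fun Y f hf hY => ?_⟩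
  have h1 := h f hf hY
  apply (RlimInjB.bijective_of_isIso J αL.hom Y).1
  rw [RlimInjB.res_comm J, map_zero]
  exact h1

end Groth.Agent.H45.RlimModW
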