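import Groth.Agent.H45.RlimModW.ClassO
import Groth.Agent.H31.FreeOn
import Groth.Prelude.Def_SiteCmp

/-!
# `H^j(Y', R X) = H^j(u Y', X)` for a right adjoint `R` of `f^*` on derived categories (helper45)

For a flat morphism of ringed sites `f : (C, O_C) → (D, O_D)` with underlying functor `u : D → C` and a right adjoint `R`
of `f^* = f.pull.mapDerivedCategory`, a natural bijection
`Hom(j_{Y'!}O[0], (R X)[j]) ≃ Hom(j_{uY'!}O[0], X[j])`.
-/

set_option autoImplicit false
universe w w' u
open CategoryTheory CategoryTheory.Limits Opposite DerivedCategory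

namespace Groth.Agent.H45.RlimModW

variable {C : Type u} [SmallCategory C] {J : GrothendieckTopology C} {O_C : Sheaf J CommRingCat.{u}}
  {D : Type u} [SmallCategory D] {K : GrothendieckTopology D} {O_D : Sheaf K CommRingCat.{u}}
  [HasDerivedCategory.{w} (ModSite.Mod O_C)] [HasDerivedCategory.{w'} (ModSite.Mod O_D)]
  (f : ModSite.RMor O_C O_D) [PreservesFiniteLimits f.pull]

/-- `f^*(j_{Y'!}O_D[0]) ≅ j_{uY'!}O_C[0]` in the derived category. -/
noncomputable def pullZOIso (Y' : D) :
    f.pull.mapDerivedCategory.obj (ZO O_D Y') ≅ ZO O_C (f.fn.obj Y') :=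
  (f.pull.mapDerivedCategorySingleFunctor 0).app (ModSite.freeOn O_D Y') ≪≫
    (DerivedCategory.singleFunctor (ModSite.Mod O_C) 0).mapIso
      (Groth.Agent.H31.pullFreeOnIso f Y')

variable {R : DerivedCategory (ModSite.Mod O_C) ⥤ DerivedCategory (ModSite.Mod O_D)}
  (adj : f.pull.mapDerivedCategory ⊣ R) [R.CommShift ℤ]

/-- `H^j(Y', R X) ≃ H^j(u Y', X)`. -/
noncomputable def transferEquiv (X : DerivedCategory (ModSite.Mod O_C)) (j : ℤ) (Y' : D) :
    HDUO O_D (R.obj X) j Y' ≃ HDUO O_C X j (f.fn.obj Y') :=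
  ((Iso.homToEquiv ((R.commShiftIso j).symm.app X)).trans
    (adj.homEquiv (ZO O_D Y') (X⟦j⟧)).symm).trans
    (Iso.homFromEquiv (pullZOIso f Y'))

lemma transferEquiv_apply (X : DerivedCategory (ModSite.Mod O_C)) (j : ℤ) (Y' : D)
    (x : HDUO O_D (R.obj X) j Y') :
    transferEquiv f adj X j Y' x =
      (pullZOIso f Y').inv ≫
        (adj.homEquiv (ZO O_D Y') (X⟦j⟧)).symm (x ≫ (R.commShiftIso j).inv.app X) := rfl

lemma transferEquiv_naturality {X X' : DerivedCategory (ModSite.Mod O_C)} (g : X ⟶ X') (j : ℤ)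
    (Y' : D) (x : HDUO O_D (R.obj X) j Y') :
    transferEquiv f adj X' j Y' (x ≫ (R.map g)⟦j⟧') = transferEquiv f adj X j Y' x ≫ g⟦j⟧' := by
  rw [transferEquiv_apply, transferEquiv_apply, Category.assoc, Category.assoc]
  congr 1
  have h1 : (R.map g)⟦j⟧' ≫ (R.commShiftIso j).inv.app X' =
      (R.commShiftIso j).inv.app X ≫ R.map (g⟦j⟧') :=
    (R.commShiftIso j).inv.naturality g
  rw [h1, ← Category.assoc, Adjunction.homEquiv_naturality_right_symm]

include adj in
lemma injective_transfer {X X' : DerivedCategory (ModSite.Mod O_C)} (g : X ⟶ X') (j : ℤ) (Y' : D)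
    (h : Function.Injective (fun x : HDUO O_C X j (f.fn.obj Y') => x ≫ g⟦j⟧')) :
    Function.Injective (fun x : HDUO O_D (R.obj X) j Y' => x ≫ (R.map g)⟦j⟧') := by
  intro x y hxy
  apply (transferEquiv f adj X j Y').injective
  apply h
  change transferEquiv f adj X j Y' x ≫ g⟦j⟧' = transferEquiv f adj X j Y' y ≫ g⟦j⟧'
  rw [← transferEquiv_naturality, ← transferEquiv_naturality]
  exact congrArg _ hxy

include adj in
lemma surjective_transfer {X X' : DerivedCategory (ModSite.Mod O_C)} (g : X ⟶ X') (j : ℤ) (Y' : D)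
    (h : Function.Surjective (fun x : HDUO O_C X j (f.fn.obj Y') => x ≫ g⟦j⟧')) :
    Function.Surjective (fun x : HDUO O_D (R.obj X) j Y' => x ≫ (R.map g)⟦j⟧') := by
  intro y
  obtain ⟨x, hx⟩ := h (transferEquiv f adj X' j Y' y)
  refine ⟨(transferEquiv f adj X j Y').symm x, ?_⟩
  apply (transferEquiv f adj X' j Y').injective
  change transferEquiv f adj X' j Y' ((transferEquiv f adj X j Y').symm x ≫ (R.map g)⟦j⟧') = _
  rw [transferEquiv_naturality, Equiv.apply_symm_apply]
  exact hx

end Groth.Agent.H45.RlimModW
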