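import Groth.Agent.H45.Derived.UnboundedEquiv2
import Groth.Agent.H45.RlimModW.Const2
import Groth.Agent.H45.RlimModW.Transfer
import Groth.Agent.H45.RlimModW.Products

/-!
# The stabilisation hypothesis for `Rf_*` on `D_A(O_C)` from cohomological dimension bounds (helper45)
-/

set_option autoImplicit false
universe w w' u
open CategoryTheory CategoryTheory.Limits Opposite Pretriangulated DerivedCategory

namespace Groth.Agent.H45.RlimModW

open Groth.Agent.H16 Groth.Agent.H45.UEq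

variable {C : Type u} [SmallCategory C] {J : GrothendieckTopology C} {O_C : Sheaf J CommRingCat.{u}}
  {D : Type u} [SmallCategory D] {K : GrothendieckTopology D} {O_D : Sheaf K CommRingCat.{u}}
  [HasDerivedCategory.{w} (ModSite.Mod O_C)] [HasDerivedCategory.{w'} (ModSite.Mod O_D)]
  (f : ModSite.RMor O_C O_D) [PreservesFiniteLimits f.pull]
  {R : DerivedCategory (ModSite.Mod O_C) ⥤ DerivedCategory (ModSite.Mod O_D)}
  (adj : f.pull.mapDerivedCategory ⊣ R)

/-- `K = R lim τ_{≥ -n} K` for `K ∈ D_A(O)` under a cohomological dimension bound for `A`. -/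
theorem rlimHyp_of_good (A : ObjectProperty (ModSite.Mod O_C)) (B : Set C)
    (hB : ∀ U : C, ∃ (ι : Type u) (Y : ι → C) (g : ∀ i, Y i ⟶ U),
      Sieve.ofArrows Y g ∈ J U ∧ ∀ i, Y i ∈ B)
    (hA : ∀ V ∈ B, ∃ d : ℕ, ∀ T ∈ J V, ∃ (ι : Type u) (Y : ι → C) (g : ∀ i, Y i ⟶ V),
      (∀ i, T.arrows (g i)) ∧ Sieve.ofArrows Y g ∈ J V ∧ ∀ i, Good O_C A d (Y i))
    (X : DerivedCategory (ModSite.Mod O_C)) (hX : WSerre.cohIn A X)
    [HasProduct (CohCx.truncTower X)] :
    CohCx.IsRlimVia (CohCx.truncTower X) (CohCx.truncTowerMap X) X (CohCx.toTruncTower X) := by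
  refine isRlimVia_truncTower O_C X B hB ?_
  intro V hV
  obtain ⟨d, hd⟩ := hA V hV
  refine ⟨fun _ => (d : ℤ), fun T hT => ?_⟩
  obtain ⟨ι, Y, g, hgT, hcov, hvan⟩ := hd T hT
  exact ⟨ι, Y, g, hgT, hcov, fun i m k hk => hvan i _ (hX _) k (by
    have hk' : (d : ℤ) < (k : ℤ) := hk
    exact_mod_cast hk')⟩

include adj in
/-- The stabilisation hypothesis for `R` on `D_A(O_C)` when the objects `u(V'_i)` have bounded cohomological
dimension for `A`. -/
theorem stabHyp_of_good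
    (A : ObjectProperty (ModSite.Mod O_C)) [WSerre.IsWeakSerre A]
    (A' : ObjectProperty (ModSite.Mod O_D))
    (h2c : ∀ M : ModSite.Mod O_C, A M → ∃ F' : ModSite.Mod O_D, A' F' ∧
      Nonempty (f.pull.obj F' ≅ M))
    (h3 : ∀ F' : ModSite.Mod O_D, A' F' →
      IsIso (adj.unit.app ((singleFunctor (ModSite.Mod O_D) 0).obj F')))
    (hRlim : ∀ X : DerivedCategory (ModSite.Mod O_C), WSerre.cohIn A X →
      ∀ [HasProduct (CohCx.truncTower X)],
      CohCx.IsRlimVia (CohCx.truncTower X) (CohCx.truncTowerMap X) X (CohCx.toTruncTower X))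
    (B' : Set D)
    (hB' : ∀ U : D, ∃ (ι : Type u) (Y : ι → D) (g : ∀ i, Y i ⟶ U),
      Sieve.ofArrows Y g ∈ K U ∧ ∀ i, Y i ∈ B')
    (hA' : ∀ V ∈ B', ∃ d : ℕ, ∀ T ∈ K V, ∃ (ι : Type u) (Y : ι → D) (g : ∀ i, Y i ⟶ V),
      (∀ i, T.arrows (g i)) ∧ Sieve.ofArrows Y g ∈ K V ∧
      ∀ i, Good O_C A d (f.fn.obj (Y i))) :
    StabHyp R A := by
  intro X hX j
  letI := adj.rightAdjointCommShift ℤ
  haveI := adj.commShift_of_leftAdjoint ℤ
  haveI : R.IsTriangulated := adj.isTriangulated_rightAdjoint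
  haveI : R.Additive := adj.right_adjoint_additive
  haveI : PreservesLimitsOfSize.{0, 0} R := adj.rightAdjoint_preservesLimits
  haveI hprodC : ∀ K : ℕ → DerivedCategory (ModSite.Mod O_C), HasProduct K :=
    fun K => hasProduct_derived_mod O_C K
  haveI hprodD : ∀ K : ℕ → DerivedCategory (ModSite.Mod O_D), HasProduct K :=
    fun K => hasProduct_derived_mod O_D K
  have hR := isRlimVia_map R _ _ X _ (hRlim X hX)
  refine ⟨(-j).toNat, fun n hn => ?_⟩
  refine isIso_homologyMap_of_good_transitions O_D B' hB' _ _ _ _ hR j (-j).toNat ?_ ?_ n hn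
  · intro m hm
    exact isIso_homologyMap_R_truncTowerMap f.pull adj A A' h2c h3 X hX m j (by omega)
  · intro V hV
    obtain ⟨d, hd⟩ := hA' V hV
    refine ⟨((d : ℤ) + 1 - j).toNat, fun T hT => ?_⟩
    obtain ⟨ι, Y, g, hgT, hcov, hY⟩ := hd T hT
    refine ⟨ι, Y, g, hgT, hcov, fun i m hm => ?_⟩
    have hiso : ∀ q : ℤ, j - d - 1 ≤ q → q ≤ j + 1 →
        IsIso ((homologyFunctor (ModSite.Mod O_C) q).map (CohCx.truncTowerMap X m)) :=
      fun q h1 _ => RlimTruncA.isIso_homologyMap_truncTowerMap X m q (by omega)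
    have tg := transition_good (hY i) (CohCx.truncTowerMap X m)
      (cohInPlus_truncTower A X hX (m + 1)) (cohInPlus_truncTower A X hX m) j hiso
    exact ⟨injective_transfer f adj _ j (Y i) tg.1, surjective_transfer f adj _ j (Y i) tg.2.1,
      surjective_transfer f adj _ (j - 1) (Y i) tg.2.2⟩

end Groth.Agent.H45.RlimModW
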