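import Groth.Agent.H16.RlimInjB

/-!
# Local surjectivity on homology sheaves from a sectionwise criterion; towers (helper45)

* `local_surjective`: for a morphism `Φ : S ⟶ S'` of short complexes of abelian sheaves and a class `P` of
  objects on which every cycle of `S'` is the image of a cycle of `S` up to a boundary, every section of the
  homology of `S'` lifts to the homology of `S` on the members of a suitable covering sieve lying in `P`.
* `epi_of_local_lifts`: a morphism of abelian sheaves is an epimorphism as soon as sections over the members of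
  a covering class lift along covering families.
* `exists_compatible_family`: in a tower of sets with eventually surjective transition maps every element
  extends to a compatible family.
-/

set_option autoImplicit false
universe v u
open CategoryTheory CategoryTheory.Limits Opposite

namespace Groth.Agent.H45.RlimModW

open Groth.Agent.H16 Groth.Agent.H16.RlimInjB

section tower

lemma exists_compatible_family (N : ℕ) : ∀ (X : ℕ → Type v) (τ : ∀ n, X (n + 1) → X n),
    (∀ n, N ≤ n → Function.Surjective (τ n)) → ∀ γ : X N,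
    ∃ x : ∀ n, X n, (∀ n, τ n (x (n + 1)) = x n) ∧ x N = γ := by
  induction N with
  | zero =>
    intro X τ h γ
    let x : ∀ n, X n := fun n => Nat.rec (motive := fun n => X n) γ
      (fun n xn => Classical.choose (h n (Nat.zero_le n) xn)) n
    refine ⟨x, fun n => ?_, rfl⟩
    exact Classical.choose_spec (h n (Nat.zero_le n) (x n))
  | succ N ih =>
    intro X τ h γ
    obtain ⟨x', hx', hγ⟩ := ih (fun n => X (n + 1)) (fun n => τ (n + 1))
      (fun n hn => h (n + 1) (Nat.succ_le_succ hn)) γ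
    let x : ∀ n, X n := fun n => Nat.casesOn (motive := fun n => X n) n (τ 0 (x' 0)) (fun n => x' n)
    refine ⟨x, fun n => ?_, hγ⟩
    cases n with
    | zero => rfl
    | succ n => exact hx' n

end tower

variable {C : Type u} [SmallCategory C] {J : GrothendieckTopology C}

section cycles

variable (S : ShortComplex (Sheaf J AddCommGrpCat.{u}))

/-- a section of `X₂` killed by `g` comes from a section of the cycles. -/
lemma exists_cycle (W : C) (x : S.X₂.obj.obj (op W)) (hx : (S.g.hom.app (op W)).hom x = 0) :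
    ∃ z : S.cycles.obj.obj (op W), (S.iCycles.hom.app (op W)).hom z = x := by
  let Γ := sheafToPresheaf J AddCommGrpCat.{u} ⋙ (evaluation Cᵒᵖ AddCommGrpCat.{u}).obj (op W)
  have hex : ((ShortComplex.mk S.iCycles S.g S.iCycles_g).map Γ).Exact :=
    (ShortComplex.exact_of_f_is_kernel _ S.cyclesIsKernel).map_of_mono_of_preservesKernel Γ
      (inferInstanceAs (Mono S.iCycles)) inferInstance
  obtain ⟨z, hz⟩ := (ShortComplex.ab_exact_iff _).1 hex x hx
  exact ⟨z, hz⟩

end cycles

theorem local_surjective {S S' : ShortComplex (Sheaf J AddCommGrpCat.{u})} (Φ : S ⟶ S')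
    (P : C → Prop)
    (hP : ∀ Y : C, P Y → ∀ x' : S'.X₂.obj.obj (op Y), (S'.g.hom.app (op Y)).hom x' = 0 →
      ∃ (x : S.X₂.obj.obj (op Y)) (b : S'.X₁.obj.obj (op Y)), (S.g.hom.app (op Y)).hom x = 0 ∧
        (Φ.τ₂.hom.app (op Y)).hom x + (S'.f.hom.app (op Y)).hom b = x')
    (V : C) (σ : S'.homology.obj.obj (op V)) :
    ∃ T : Sieve V, T ∈ J V ∧ ∀ ⦃Y : C⦄ (f : Y ⟶ V), T.arrows f → P Y →
      ∃ τ : S.homology.obj.obj (op Y),
        ((ShortComplex.homologyMap Φ).hom.app (op Y)).hom τ = (S'.homology.obj.map f.op).hom σ := by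
  obtain ⟨T, hT, h₁⟩ := homology_local_cycles S' V σ
  refine ⟨T, hT, fun Y f hf hY => ?_⟩
  obtain ⟨c, hc⟩ := h₁ f hf
  obtain ⟨x, b, hx, hxb⟩ := hP Y hY ((S'.iCycles.hom.app (op Y)).hom c) (iCycles_g_apply S' Y c)
  obtain ⟨z, hz⟩ := exists_cycle S Y x hx
  refine ⟨(S.homologyπ.hom.app (op Y)).hom z, ?_⟩
  rw [← hc, ← RlimInjB.comp_apply' J, ShortComplex.homologyπ_naturality, RlimInjB.comp_apply' J]
  -- the difference of the two cycles is a boundary
  let c₀ : S'.cycles.obj.obj (op Y) := c - ((ShortComplex.cyclesMap Φ).hom.app (op Y)).hom z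
  have h0 : (S'.homologyπ.hom.app (op Y)).hom c₀ = 0 := by
    refine homologyπ_eq_zero_of_boundary S' Y c₀ b ?_
    have e1 : (S'.iCycles.hom.app (op Y)).hom (((ShortComplex.cyclesMap Φ).hom.app (op Y)).hom z) =
        (Φ.τ₂.hom.app (op Y)).hom x := by
      have e3 : ((ShortComplex.cyclesMap Φ ≫ S'.iCycles).hom.app (op Y)).hom z =
          ((S.iCycles ≫ Φ.τ₂).hom.app (op Y)).hom z := by rw [ShortComplex.cyclesMap_i]
      refine e3.trans ?_
      rw [RlimInjB.comp_apply' J, hz]
    change _ = (S'.iCycles.hom.app (op Y)).hom (c - ((ShortComplex.cyclesMap Φ).hom.app (op Y)).hom z)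
    rw [map_sub, e1, ← hxb]
    abel
  have h1 : (S'.homologyπ.hom.app (op Y)).hom c₀ =
      (S'.homologyπ.hom.app (op Y)).hom c -
        (S'.homologyπ.hom.app (op Y)).hom (((ShortComplex.cyclesMap Φ).hom.app (op Y)).hom z) :=
    map_sub _ _ _
  rw [h1, sub_eq_zero] at h0
  exact h0.symm

/-- A morphism of abelian sheaves is an epimorphism as soon as, for `V` in a covering class `B`, every section
of the target over `V` lifts along the members of a covering family of `V`. -/
theorem epi_of_local_lifts {F G : Sheaf J AddCommGrpCat.{u}} (φ : F ⟶ G) (B : Set C)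
    (hB : ∀ U : C, ∃ (ι : Type u) (Y : ι → C) (f : ∀ i, Y i ⟶ U),
      Sieve.ofArrows Y f ∈ J U ∧ ∀ i, Y i ∈ B)
    (h : ∀ V ∈ B, ∀ σ : G.obj.obj (op V), ∃ (ι : Type u) (Y : ι → C) (f : ∀ i, Y i ⟶ V),
      Sieve.ofArrows Y f ∈ J V ∧ ∀ i, ∃ τ : F.obj.obj (op (Y i)),
        (φ.hom.app (op (Y i))).hom τ = (G.obj.map (f i).op).hom σ) : Epi φ := by
  rw [← Sheaf.isLocallySurjective_iff_epi']
  refine ⟨fun {U} σ => ?_⟩
  obtain ⟨ι, V, fV, hcov, hVB⟩ := hB U
  refine J.transitive hcov _ ?_
  intro W g hg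
  obtain ⟨a, v, rfl⟩ := (Sieve.mem_ofArrows_iff V fV g).1 hg
  obtain ⟨ι', Y, fY, hcovY, hτ⟩ := h (V a) (hVB a) ((G.obj.map (fV a).op).hom σ)
  refine J.superset_covering ?_ (J.pullback_stable v hcovY)
  intro Z w hw
  obtain ⟨i, u, huw⟩ := (Sieve.mem_ofArrows_iff Y fY (w ≫ v)).1 hw
  obtain ⟨τ, hτi⟩ := hτ i
  refine ⟨(F.obj.map u.op).hom τ, ?_⟩
  have e1 : (φ.hom.app (op Z)).hom ((F.obj.map u.op).hom τ) =
      (G.obj.map u.op).hom ((φ.hom.app (op (Y i))).hom τ) := RlimInjB.res_comm J φ u τ
  refine e1.trans ?_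
  rw [hτi]
  have e2 : (G.obj.map u.op).hom ((G.obj.map (fY i).op).hom ((G.obj.map (fV a).op).hom σ)) =
      (G.obj.map ((u ≫ fY i) ≫ fV a).op).hom σ := by
    rw [op_comp, op_comp, Functor.map_comp, Functor.map_comp]
    rfl
  refine e2.trans ?_
  rw [← huw, Category.assoc]

end Groth.Agent.H45.RlimModW
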