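import Groth.Agent.H45.RlimModW.CoreO
import Groth.Agent.H45.RlimModW.LocalSurj
import Groth.Agent.H16.RlimMilnor

/-!
# Local surjectivity of `H^m(L) → H^m(K_N)` for a derived limit in `D(O)` of a ringed site (helper45)

If the transition maps `H^m(Y, K_{n+1}) → H^m(Y, K_n)` are surjective for `n ≥ N` on the members `Y` of covering
families cofinal among the coverings of `V`, then every section of `H^m(K_N)` over `V` lifts to `H^m(L)` on the
members of a covering family of `V`.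
-/

set_option autoImplicit false
universe w u
open CategoryTheory CategoryTheory.Limits Opposite CochainComplex HomComplex DerivedCategory

namespace Groth.Agent.H45.RlimModW

open Groth.Agent.H16 Groth.Agent.H45.RlimMod

variable {C : Type u} [SmallCategory C] {J : GrothendieckTopology C} (O : Sheaf J CommRingCat.{u})
  [HasDerivedCategory.{w} (ModSite.Mod O)]

/-- surjectivity of the transition maps of `H^j(Y, K_n)` from the index `N` on. -/
def PSurj (K : ℕ → DerivedCategory (ModSite.Mod O)) (t : ∀ n, K (n + 1) ⟶ K n)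
    (j : ℤ) (N : ℕ) (Y : C) : Prop :=
  ∀ n, N ≤ n → Function.Surjective
    (fun x : HDUO O (K (n + 1)) j Y => x ≫ (CategoryTheory.shiftFunctor _ j).map (t n))

section chain

variable (K : ℕ → DerivedCategory (ModSite.Mod O)) (t : ∀ n, K (n + 1) ⟶ K n)
  [HasProduct K] (L : DerivedCategory (ModSite.Mod O)) (a : ∀ n, L ⟶ K n)
  (hL : CohCx.IsRlimVia K t L a) (m : ℤ) (N : ℕ)
  (IL IN : CochainComplex (ModSite.Mod O) ℤ) [IL.IsKInjective] [IN.IsKInjective]
  (eL : L ≅ Q.obj IL) (eN : K N ≅ Q.obj IN) (φ : IL ⟶ IN)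
  (hφ : Q.map φ = eL.inv ≫ a N ≫ eN.hom)

include hL hφ in
/-- on an object where the transition maps are eventually surjective, every cycle of `IN` is the image of a
cycle of `IL` up to a boundary. -/
lemma cycle_decomp (Y : C) (hY : PSurj O K t m N Y)
    (q' : ℤ) (hq' : m + 1 = q') (q'' : ℤ) (hq'' : q'' + 1 = m)
    (x' : (IN.X m).val.obj (op Y)) (hx' : (IN.d m q').val.app (op Y) x' = 0) :
    ∃ (x : (IL.X m).val.obj (op Y)) (b : (IN.X q'').val.obj (op Y)),
      (IL.d m q').val.app (op Y) x = 0 ∧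
      (φ.f m).val.app (op Y) x + (IN.d q'' m).val.app (op Y) b = x' := by
  let γ : HDUO O (K N) m Y := clsO IN m Y q' hq' x' hx' ≫ (eN.inv)⟦m⟧'
  obtain ⟨xs, hxs, hxsN⟩ := exists_compatible_family N (fun n => HDUO O (K n) m Y)
    (fun n x => x ≫ (CategoryTheory.shiftFunctor _ m).map (t n)) hY γ
  obtain ⟨y, hy⟩ := RlimMilnor.exists_lift hL (ZO O Y) m xs hxs
  obtain ⟨x, hx, hxy⟩ := clsO_surjective IL m Y q' hq' (y ≫ (eL.hom)⟦m⟧')
  have hφx := map_cycle φ m q' Y x hx
  have h1 : clsO IN m Y q' hq' _ hφx = clsO IN m Y q' hq' x' hx' := by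
    rw [clsO_postcomp φ m Y q' hq' x hx hφx, hxy, hφ, Category.assoc, ← Functor.map_comp,
      Iso.hom_inv_id_assoc, Functor.map_comp, ← Category.assoc, hy N, hxsN]
    change (clsO IN m Y q' hq' x' hx' ≫ (eN.inv)⟦m⟧') ≫ (eN.hom)⟦m⟧' = _
    rw [Category.assoc, ← Functor.map_comp, Iso.inv_hom_id, CategoryTheory.Functor.map_id,
      Category.comp_id]
  -- the difference is a cycle with vanishing class
  let w₀ : (IN.X m).val.obj (op Y) := x' - (φ.f m).val.app (op Y) x
  have hw₀ : (IN.d m q').val.app (op Y) w₀ = 0 := by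
    change (IN.d m q').val.app (op Y) (x' - (φ.f m).val.app (op Y) x) = 0
    rw [map_sub, hx', hφx, sub_zero]
  have hsum : w₀ + (φ.f m).val.app (op Y) x = x' := sub_add_cancel _ _
  have hsum' : (IN.d m q').val.app (op Y) (w₀ + (φ.f m).val.app (op Y) x) = 0 := by
    rw [hsum]; exact hx'
  have h2 : clsO IN m Y q' hq' w₀ hw₀ = 0 := by
    have h3 := clsO_add IN m Y q' hq' w₀ _ hw₀ hφx hsum'
    rw [clsO_congr IN m Y q' hq' hsum hsum' hx', h1] at h3
    exact (add_eq_right.1 h3.symm)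
  obtain ⟨b, hb⟩ := (clsO_eq_zero_iff IN m Y q' hq' w₀ hw₀ q'' hq'').1 h2
  refine ⟨x, b, hx, ?_⟩
  rw [hb]
  exact add_sub_cancel _ _

end chain

/-- **Local surjectivity**: every section of `H^m(K_N)` over `V` lifts to `H^m(L)` along a covering family. -/
theorem exists_local_lift (K : ℕ → DerivedCategory (ModSite.Mod O)) (t : ∀ n, K (n + 1) ⟶ K n)
    [HasProduct K] (L : DerivedCategory (ModSite.Mod O)) (a : ∀ n, L ⟶ K n)
    (hL : CohCx.IsRlimVia K t L a) (V : C) (m : ℤ) (N : ℕ)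
    (h : ∀ T ∈ J V, ∃ (ι : Type u) (Y : ι → C) (f : ∀ i, Y i ⟶ V), (∀ i, T.arrows (f i)) ∧
      Sieve.ofArrows Y f ∈ J V ∧ ∀ i, PSurj O K t m N (Y i))
    (σ : (HDO O (K N) m).obj.obj (op V)) :
    ∃ (ι : Type u) (Y : ι → C) (f : ∀ i, Y i ⟶ V), Sieve.ofArrows Y f ∈ J V ∧
      ∀ i, ∃ τ : (HDO O L m).obj.obj (op (Y i)),
        (((toSh O).map ((DerivedCategory.homologyFunctor _ m).map (a N))).hom.app
          (op (Y i))).hom τ = ((HDO O (K N) m).obj.map (f i).op).hom σ := by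
  have : IsGrothendieckAbelian.{u} (ModSite.Mod O) :=
    Groth.Agent.H33.SheafMod.isGrothendieckAbelian J (ModSite.ringSh O)
  obtain ⟨IL, fL, hIL, hfL, -, -⟩ := H33.KInj.exists_kInjective_resolution (Q.objPreimage L)
  obtain ⟨IN, fN, hIN, hfN, -, -⟩ := H33.KInj.exists_kInjective_resolution (Q.objPreimage (K N))
  have : IsIso (Q.map fL) :=
    (DerivedCategory.isIso_Q_map_iff_quasiIso (C := ModSite.Mod O) fL).2 hfL
  have : IsIso (Q.map fN) :=
    (DerivedCategory.isIso_Q_map_iff_quasiIso (C := ModSite.Mod O) fN).2 hfN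
  let eL : L ≅ Q.obj IL := (Q.objObjPreimageIso L).symm ≪≫ asIso (Q.map fL)
  let eN : K N ≅ Q.obj IN := (Q.objObjPreimageIso (K N)).symm ≪≫ asIso (Q.map fN)
  obtain ⟨φ, hφ⟩ := RlimInjC.exists_Q_map_eq IL IN (eL.inv ≫ a N ≫ eN.hom)
  let H := DerivedCategory.homologyFunctor (ModSite.Mod O) m
  let βL : H.obj L ≅ (IL.sc m).homology :=
    H.mapIso eL ≪≫ (DerivedCategory.homologyFunctorFactors (ModSite.Mod O) m).app IL
  let βN : H.obj (K N) ≅ (IN.sc m).homology :=
    H.mapIso eN ≪≫ (DerivedCategory.homologyFunctorFactors (ModSite.Mod O) m).app IN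
  let φm : IL.sc m ⟶ IN.sc m := (HomologicalComplex.shortComplexFunctor _ _ m).map φ
  have hnat0 : H.map (a N) ≫ βN.hom = βL.hom ≫ ShortComplex.homologyMap φm := by
    have h1 : a N ≫ eN.hom = eL.hom ≫ Q.map φ := by
      rw [hφ, Iso.hom_inv_id_assoc]
    have h2 := (DerivedCategory.homologyFunctorFactors (ModSite.Mod O) m).hom.naturality φ
    change H.map (a N) ≫ H.map eN.hom ≫ _ = (H.map eL.hom ≫ _) ≫ _
    rw [← Category.assoc, ← Functor.map_comp, h1, Functor.map_comp, Category.assoc, Category.assoc]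
    congr 1
  let S := (IL.sc m).map (toSh O)
  let S' := (IN.sc m).map (toSh O)
  let Φ : S ⟶ S' := (toSh O).mapShortComplex.map φm
  let αL : HDO O L m ≅ S.homology :=
    (toSh O).mapIso βL ≪≫ ((IL.sc m).mapHomologyIso (toSh O)).symm
  let αN : HDO O (K N) m ≅ S'.homology :=
    (toSh O).mapIso βN ≪≫ ((IN.sc m).mapHomologyIso (toSh O)).symm
  have hnat : (toSh O).map (H.map (a N)) ≫ αN.hom = αL.hom ≫ ShortComplex.homologyMap Φ := by
    change (toSh O).map (H.map (a N)) ≫ (toSh O).map βN.hom ≫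
        ((IN.sc m).mapHomologyIso (toSh O)).inv =
      ((toSh O).map βL.hom ≫ ((IL.sc m).mapHomologyIso (toSh O)).inv) ≫ ShortComplex.homologyMap Φ
    rw [← Category.assoc, ← Functor.map_comp, hnat0, Functor.map_comp, Category.assoc,
      Category.assoc]
    congr 1
    exact ShortComplex.mapHomologyIso_inv_naturality φm (toSh O)
  let σ' : S'.homology.obj.obj (op V) := (αN.hom.hom.app (op V)).hom σ
  obtain ⟨T, hT, hT'⟩ := local_surjective Φ (PSurj O K t m N) (by
    intro Y hY x' hx'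
    exact cycle_decomp O K t L a hL m N IL IN eL eN φ hφ Y hY _ (next_eq m) _
      (prev_eq m) x' hx') V σ'
  obtain ⟨ι, Y, f, hfT, hcov, hY⟩ := h T hT
  refine ⟨ι, Y, f, hcov, fun i => ?_⟩
  obtain ⟨τ', hτ'⟩ := hT' (f i) (hfT i) (hY i)
  obtain ⟨τ, hτ⟩ := (RlimInjB.bijective_of_isIso J αL.hom (Y i)).2 τ'
  refine ⟨τ, ?_⟩
  apply (RlimInjB.bijective_of_isIso J αN.hom (Y i)).1
  rw [← RlimInjB.comp_apply' J, hnat, RlimInjB.comp_apply' J, hτ, hτ', RlimInjB.res_comm J]

end Groth.Agent.H45.RlimModW
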