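import Groth.Agent.H45.RlimModW.Good
import Groth.Agent.H45.RlimModW.SurjO

/-!
# `H^j(R lim K_n) = H^j(K_n)` for `n` large, for inverse systems in `D^+_A(O)` with eventually constant
cohomology sheaves (helper45)
-/

set_option autoImplicit false
universe w u
open CategoryTheory CategoryTheory.Limits Opposite Pretriangulated DerivedCategory

namespace Groth.Agent.H45.RlimModW

open Groth.Agent.H16

variable {C : Type u} [SmallCategory C] {J : GrothendieckTopology C} (O : Sheaf J CommRingCat.{u})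
  [HasDerivedCategory.{w} (ModSite.Mod O)]

section general

variable (K : ℕ → DerivedCategory (ModSite.Mod O)) (t : ∀ n, K (n + 1) ⟶ K n)

lemma isIso_homologyMap_transition (j : ℤ) (n₀ : ℕ)
    (h : ∀ n, n₀ ≤ n → IsIso ((homologyFunctor (ModSite.Mod O) j).map (t n))) (n : ℕ)
    (hn : n₀ ≤ n) (k : ℕ) :
    IsIso ((homologyFunctor (ModSite.Mod O) j).map (CohCx.transition K t n k)) := by
  induction k with
  | zero =>
    change IsIso ((homologyFunctor (ModSite.Mod O) j).map (𝟙 _))
    rw [CategoryTheory.Functor.map_id]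
    infer_instance
  | succ k ih =>
    change IsIso ((homologyFunctor (ModSite.Mod O) j).map (t (n + k) ≫ CohCx.transition K t n k))
    rw [CategoryTheory.Functor.map_comp]
    have := h (n + k) (by omega)
    infer_instance

lemma injective_transition (j : ℤ) (N : ℕ) (Y : C)
    (h : ∀ n, N ≤ n → Function.Injective
      (fun x : HDUO O (K (n + 1)) j Y => x ≫ (t n)⟦j⟧')) (k : ℕ) :
    Function.Injective
      (Preadditive.rightComp _ ((shiftFunctor _ j).map (CohCx.transition K t N k)) :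
        HDUO O (K (N + k)) j Y → HDUO O (K N) j Y) := by
  induction k with
  | zero =>
    intro x y hxy
    have h1 : ∀ z : HDUO O (K (N + 0)) j Y,
        (Preadditive.rightComp _ ((shiftFunctor _ j).map (CohCx.transition K t N 0))) z = z := by
      intro z
      change z ≫ (shiftFunctor _ j).map (𝟙 _) = z
      rw [CategoryTheory.Functor.map_id]
      exact Category.comp_id z
    rw [h1, h1] at hxy
    exact hxy
  | succ k ih =>
    intro x y hxy
    have h1 : ∀ z : HDUO O (K (N + (k + 1))) j Y,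
        (Preadditive.rightComp _ ((shiftFunctor _ j).map (CohCx.transition K t N (k + 1)))) z =
        (Preadditive.rightComp _ ((shiftFunctor _ j).map (CohCx.transition K t N k)))
          (z ≫ (t (N + k))⟦j⟧') := by
      intro z
      change z ≫ (shiftFunctor _ j).map (t (N + k) ≫ CohCx.transition K t N k) = _
      rw [CategoryTheory.Functor.map_comp, ← Category.assoc]
      rfl
    rw [h1, h1] at hxy
    exact h (N + k) (Nat.le_add_right N k) (ih hxy)

end general

/-- **Cohomology of a derived limit with eventually constant cohomology sheaves.** -/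
theorem isIso_homologyMap_of_eventually_constant
    (A : ObjectProperty (ModSite.Mod O)) [WSerre.IsWeakSerre A] (B : Set C)
    (hB : ∀ U : C, ∃ (ι : Type u) (Y : ι → C) (g : ∀ i, Y i ⟶ U),
      Sieve.ofArrows Y g ∈ J U ∧ ∀ i, Y i ∈ B)
    (hA : ∀ V ∈ B, ∃ d : ℕ, ∀ T ∈ J V, ∃ (ι : Type u) (Y : ι → C) (g : ∀ i, Y i ⟶ V),
      (∀ i, T.arrows (g i)) ∧ Sieve.ofArrows Y g ∈ J V ∧ ∀ i, Good O A d (Y i))
    (K : ℕ → DerivedCategory (ModSite.Mod O)) (t : ∀ n, K (n + 1) ⟶ K n) [HasProduct K]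
    (hK : ∀ n, WSerre.cohInPlus A (K n))
    (hconst : ∀ j : ℤ, ∃ n₀ : ℕ, ∀ n, n₀ ≤ n →
      IsIso ((homologyFunctor (ModSite.Mod O) j).map (t n)))
    (L : DerivedCategory (ModSite.Mod O)) (a : ∀ n, L ⟶ K n) (hL : CohCx.IsRlimVia K t L a)
    (j : ℤ) :
    ∃ n₀ : ℕ, ∀ n, n₀ ≤ n → IsIso ((homologyFunctor (ModSite.Mod O) j).map (a n)) := by
  choose n₀ hn₀ using hconst
  refine ⟨n₀ j, fun n hn => ?_⟩
  let H := homologyFunctor (ModSite.Mod O) j
  let φ := (toSh O).map (H.map (a n))
  -- the situation over a member of `B`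
  have main : ∀ V ∈ B, ∃ N : ℕ, ∃ ψ : HDO O (K N) j ⟶ HDO O (K n) j, IsIso ψ ∧
      (toSh O).map (H.map (a N)) ≫ ψ = φ ∧
      (∀ T ∈ J V, ∃ (ι : Type u) (Y : ι → C) (g : ∀ i, Y i ⟶ V), (∀ i, T.arrows (g i)) ∧
        Sieve.ofArrows Y g ∈ J V ∧ ∀ i, HypO O K t j N (Y i) ∧ PSurj O K t j N (Y i)) := by
    intro V hV
    obtain ⟨d, hd⟩ := hA V hV
    let n₁ : ℕ := Finset.sup (Finset.Icc (j - d - 1) (j + 1)) n₀
    have hn₁ : ∀ (m : ℕ), n₁ ≤ m → ∀ q : ℤ, j - d - 1 ≤ q → q ≤ j + 1 →
        IsIso ((homologyFunctor (ModSite.Mod O) q).map (t m)) := by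
      intro m hm q h1 h2
      refine hn₀ q m (le_trans ?_ hm)
      exact Finset.le_sup (f := n₀) (Finset.mem_Icc.2 ⟨h1, h2⟩)
    refine ⟨n + n₁, (toSh O).map (H.map (CohCx.transition K t n n₁)), ?_, ?_, ?_⟩
    · have := isIso_homologyMap_transition O K t j (n₀ j) (hn₀ j) n hn n₁
      infer_instance
    · rw [← Functor.map_comp, ← Functor.map_comp, RlimInjA.a_comp_transition hL n n₁]
    · intro T hT
      obtain ⟨ι, Y, g, hgT, hcov, hY⟩ := hd T hT
      refine ⟨ι, Y, g, hgT, hcov, fun i => ?_⟩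
      have good := fun (m : ℕ) (hm : n + n₁ ≤ m) =>
        transition_good (hY i) (t m) (hK (m + 1)) (hK m) j (hn₁ m (by omega))
      refine ⟨⟨?_, ?_⟩, ?_⟩
      · exact RlimTruncB.limOne_of_eventually_surj (n + n₁) _ _ (fun m hm => (good m hm).2.2)
      · exact injective_transition O K t j (n + n₁) (Y i) (fun m hm => (good m hm).1)
      · exact fun m hm => (good m hm).2.1
  -- injectivity on sections over members of `B`
  have key : ∀ V ∈ B, ∀ s : (HDO O L j).obj.obj (op V), (φ.hom.app (op V)).hom s = 0 → s = 0 := by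
    intro V hV s hs
    obtain ⟨N, ψ, hψ, hfac, hfam⟩ := main V hV
    have hs' : (((toSh O).map (H.map (a N))).hom.app (op V)).hom s = 0 := by
      apply (RlimInjB.bijective_of_isIso J ψ V).1
      rw [← RlimInjB.comp_apply' J, hfac, map_zero]
      exact hs
    have hinj := injective_of_hyp O K t L a hL V j N (by
      intro T hT
      obtain ⟨ι, Y, g, hgT, hcov, hY⟩ := hfam T hT
      exact ⟨ι, Y, g, hgT, hcov, fun i => (hY i).1⟩)
    exact hinj (hs'.trans (map_zero _).symm)
  have hmono : Mono φ.hom := by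
    rw [NatTrans.mono_iff_mono_app]
    intro V
    rw [AddCommGrpCat.mono_iff_injective]
    refine (injective_iff_map_eq_zero (φ.hom.app V).hom).2 ?_
    intro s hs
    obtain ⟨ι, Y, f, hcov, hYB⟩ := hB V.unop
    refine RlimInjB.eq_zero_of_cover J _ V.unop s (Sieve.ofArrows Y f) hcov ?_
    intro W g hg
    obtain ⟨i, u, rfl⟩ := (Sieve.mem_ofArrows_iff Y f g).1 hg
    have h1 : ((HDO O L j).obj.map (f i).op).hom s = 0 := by
      apply key (Y i) (hYB i)
      rw [RlimInjB.res_comm J]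
      have : (φ.hom.app (Opposite.op V.unop)).hom s = 0 := hs
      rw [this, map_zero]
    have h2 : ((HDO O L j).obj.map (u ≫ f i).op).hom s =
        ((HDO O L j).obj.map u.op).hom (((HDO O L j).obj.map (f i).op).hom s) := by
      rw [op_comp, Functor.map_comp]
      rfl
    refine h2.trans ?_
    rw [h1, map_zero]
  have hmono' : Mono φ := (Sheaf.Hom.mono_iff_presheaf_mono J AddCommGrpCat.{u} φ).2 hmono
  have hepi' : Epi φ := by
    refine epi_of_local_lifts φ B hB ?_
    intro V hV σ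
    obtain ⟨N, ψ, hψ, hfac, hfam⟩ := main V hV
    obtain ⟨σ', hσ'⟩ := (RlimInjB.bijective_of_isIso J ψ V).2 σ
    obtain ⟨ι, Y, f, hcov, hτ⟩ := exists_local_lift O K t L a hL V j N (by
      intro T hT
      obtain ⟨ι, Y, g, hgT, hcov, hY⟩ := hfam T hT
      exact ⟨ι, Y, g, hgT, hcov, fun i => (hY i).2⟩) σ'
    refine ⟨ι, Y, f, hcov, fun i => ?_⟩
    obtain ⟨τ, hτi⟩ := hτ i
    refine ⟨τ, ?_⟩
    rw [← hfac, RlimInjB.comp_apply' J, hτi, RlimInjB.res_comm J, hσ']
  have h1 : Mono (H.map (a n)) := (toSh O).mono_of_mono_map hmono'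
  have h2 : Epi (H.map (a n)) := (toSh O).epi_of_epi_map hepi'
  exact isIso_of_mono_of_epi _

end Groth.Agent.H45.RlimModW
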