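import Groth.Agent.H45.RlimModW.TruncO
import Groth.Agent.H45.Derived.CohIn
import Groth.Agent.H45.Derived.TruncHomology

/-!
# Cohomology of objects of `D^+_A(O)` on objects of bounded `A`-cohomological dimension (helper45)

`Y` is *good* for a class `A` of modules and `d` if `H^k(Y, F) = 0` for `F ∈ A` and `k > d`.  For `M` bounded
below with `H^q(M) ∈ A` for `q < c - d` and `H^q(M) = 0` for `c - d ≤ q ≤ c`, we get `H^c(Y, M) = 0`.  Hence
a morphism in `D^+_A(O)` inducing isomorphisms on `H^q` for `c - d - 1 ≤ q ≤ c + 1` is bijective on `H^c(Y, -)`.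
-/

set_option autoImplicit false
universe w u
open CategoryTheory CategoryTheory.Limits Opposite Pretriangulated DerivedCategory

namespace Groth.Agent.H45.RlimModW

open Groth.Agent.H16

section tri

universe v' u'
variable {T : Type u'} [Category.{v'} T] [Preadditive T] [HasZeroObject T] [HasShift T ℤ]
  [∀ n : ℤ, (shiftFunctor T n).Additive] [Pretriangulated T]

lemma subsingleton_of_triangle (Tr : Triangle T) (hT : Tr ∈ distTriang T) (Z : T) (m : ℤ)
    (h₁ : Subsingleton (Z ⟶ Tr.obj₁⟦m⟧)) (h₃ : Subsingleton (Z ⟶ Tr.obj₃⟦m⟧)) :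
    Subsingleton (Z ⟶ Tr.obj₂⟦m⟧) := by
  have key : ∀ x : Z ⟶ Tr.obj₂⟦m⟧, x = 0 := by
    intro x
    have hx : x ≫ Tr.mor₂⟦m⟧' = 0 := @Subsingleton.elim _ h₃ _ _
    have hex := (preadditiveCoyoneda.obj (op Z)).homologySequence_exact₂ _ hT m
    rw [ShortComplex.ab_exact_iff] at hex
    obtain ⟨y, hy⟩ := hex x hx
    let y' : Z ⟶ Tr.obj₁⟦m⟧ := y
    have hy' : y' ≫ Tr.mor₁⟦m⟧' = x := hy
    have hy0 : y' = 0 := @Subsingleton.elim _ h₁ _ _
    rw [← hy', hy0, zero_comp]
  exact ⟨fun x y => (key x).trans (key y).symm⟩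

end tri

variable {C : Type u} [SmallCategory C] {J : GrothendieckTopology C} (O : Sheaf J CommRingCat.{u})
  [HasDerivedCategory.{w} (ModSite.Mod O)]

/-- `H^k(Y, F) = 0` for `F ∈ A` and `k > d`. -/
def Good (A : ObjectProperty (ModSite.Mod O)) (d : ℕ) (Y : C) : Prop :=
  ∀ F : ModSite.Mod O, A F → ∀ k : ℕ, d < k → Subsingleton (ModSite.HU O F k Y)

variable (A : ObjectProperty (ModSite.Mod O)) [WSerre.IsWeakSerre A] (d : ℕ) (Y : C)

include A in
lemma subsingleton_of_isZero (Z : DerivedCategory (ModSite.Mod O)) (hZ : IsZero Z) (c : ℤ) :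
    Subsingleton (HDUO O Z c Y) := by
  have h : IsZero (Z⟦c⟧) := (shiftFunctor _ c).map_isZero hZ
  exact ⟨fun x y => h.eq_of_tgt x y⟩

variable {O A d Y}

/-- bounded objects with cohomology in `A`, concentrated in degrees `≤ e`, have no cohomology on a good object
in degrees `> e + d`. -/
lemma subsingleton_of_bounded (hY : Good O A d Y) (k : ℕ) :
    ∀ (Z : DerivedCategory (ModSite.Mod O)) (e : ℤ), Z.IsGE (e + 1 - k) → Z.IsLE e →
      (∀ q : ℤ, A ((homologyFunctor (ModSite.Mod O) q).obj Z)) →
      ∀ c : ℤ, e + d < c → Subsingleton (HDUO O Z c Y) := by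
  induction k with
  | zero =>
    intro Z e hGE hLE _ c _
    have hGE' : Z.IsGE (e + 1) := by simpa using hGE
    exact subsingleton_of_isZero O A Y Z (TStructure.t.isZero Z e (e + 1) (by omega)) c
  | succ k ih =>
    intro Z e hGE hLE hZ c hc
    have hGE' : Z.IsGE (e - k) := by
      have : e + 1 - ((k + 1 : ℕ) : ℤ) = e - k := by push_cast; ring
      rw [← this]
      exact hGE
    have hT := TStructure.t.triangleLTGE_distinguished e Z
    -- the first object
    have h₁ : Subsingleton (HDUO O ((TStructure.t.truncLT e).obj Z) c Y) := by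
      refine ih _ (e - 1) ?_ ?_ ?_ c (by omega)
      · have : e - 1 + 1 - (k : ℤ) = e - k := by ring
        rw [this]
        infer_instance
      · infer_instance
      · intro q
        by_cases hq : q < e
        · have := Groth.Agent.H45.isIso_homologyMap_truncLTι Z e q hq
          exact A.prop_of_iso
            (asIso ((homologyFunctor _ q).map ((TStructure.t.truncLTι e).app Z))).symm (hZ q)
        · apply A.prop_of_isZero
          exact isZero_of_isLE _ (e - 1) q (by omega)
    -- the third object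
    have h₃ : Subsingleton (HDUO O ((TStructure.t.truncGE e).obj Z) c Y) := by
      obtain ⟨G, ⟨iso⟩⟩ := exists_iso_singleFunctor_obj_of_isGE_of_isLE
        ((TStructure.t.truncGE e).obj Z) e
      have := Groth.Agent.H45.isIso_homologyMap_truncGEπ Z e e le_rfl
      have eG : (homologyFunctor (ModSite.Mod O) e).obj Z ≅ G :=
        asIso ((homologyFunctor _ e).map ((TStructure.t.truncGEπ e).app Z)) ≪≫
          (homologyFunctor _ e).mapIso iso ≪≫ (singleFunctorCompHomologyFunctorIso _ e).app G
      have hG : A G := A.prop_of_iso eG (hZ e)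
      have hk : ((c - e).toNat : ℤ) = c - e := Int.toNat_of_nonneg (by omega)
      exact subsingleton_HDUO_of_HU O Y G _ e c (c - e).toNat hk.symm iso
        (hY G hG _ (by omega))
    exact subsingleton_of_triangle _ hT (ZO O Y) c h₁ h₃

/-- `H^c(Y, M) = 0` for `M` bounded below with `H^q(M) ∈ A` for `q < c - d` and `H^q(M) = 0` for
`c - d ≤ q ≤ c`, on a good object `Y`. -/
lemma subsingleton_of_range (hY : Good O A d Y) (M : DerivedCategory (ModSite.Mod O)) (b : ℤ)
    (hM : M.IsGE b) (c : ℤ)
    (hA : ∀ q : ℤ, q < c - d → A ((homologyFunctor (ModSite.Mod O) q).obj M))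
    (h0 : ∀ q : ℤ, c - d ≤ q → q ≤ c → IsZero ((homologyFunctor (ModSite.Mod O) q).obj M)) :
    Subsingleton (HDUO O M c Y) := by
  let n : ℤ := c - d
  have hT := TStructure.t.triangleLTGE_distinguished n M
  have h₁ : Subsingleton (HDUO O ((TStructure.t.truncLT n).obj M) c Y) := by
    refine subsingleton_of_bounded hY (n - b).toNat _ (n - 1) ?_ inferInstance ?_ c
      (by simp only [n]; omega)
    · by_cases hnb : b ≤ n
      · have : n - 1 + 1 - ((n - b).toNat : ℤ) = b := by
          rw [Int.toNat_of_nonneg (by omega)]; ring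
        rw [this]
        infer_instance
      · have : n - 1 + 1 - ((n - b).toNat : ℤ) = n := by
          rw [Int.toNat_eq_zero.2 (by omega)]; simp
        rw [this]
        have : ((TStructure.t.truncLT n).obj M).IsGE b := inferInstance
        exact TStructure.t.isGE_of_ge _ n b (by omega)
    · intro q
      by_cases hq : q < n
      · have := Groth.Agent.H45.isIso_homologyMap_truncLTι M n q hq
        exact A.prop_of_iso
          (asIso ((homologyFunctor _ q).map ((TStructure.t.truncLTι n).app M))).symm (hA q hq)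
      · apply A.prop_of_isZero
        exact isZero_of_isLE _ (n - 1) q (by omega)
  have h₃ : Subsingleton (HDUO O ((TStructure.t.truncGE n).obj M) c Y) := by
    have hGE : ((TStructure.t.truncGE n).obj M).IsGE (c + 1) := by
      rw [isGE_iff]
      intro i hi
      by_cases hin : i < n
      · exact isZero_of_isGE _ n i hin
      · have := Groth.Agent.H45.isIso_homologyMap_truncGEπ M n i (by omega)
        exact (h0 i (by omega) (by omega)).of_iso
          (asIso ((homologyFunctor _ i).map ((TStructure.t.truncGEπ n).app M))).symm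
    have hGE' : (((TStructure.t.truncGE n).obj M)⟦c⟧).IsGE 1 :=
      TStructure.t.isGE_shift _ (c + 1) c 1 (by omega)
    have hLE : (ZO O Y).IsLE 0 := by
      change ((DerivedCategory.singleFunctor (ModSite.Mod O) 0).obj (ModSite.freeOn O Y)).IsLE 0
      infer_instance
    exact ⟨fun x y => (TStructure.t.zero_of_isLE_of_isGE x 0 1 (by omega) hLE hGE').trans
      (TStructure.t.zero_of_isLE_of_isGE y 0 1 (by omega) hLE hGE').symm⟩
  exact subsingleton_of_triangle _ hT (ZO O Y) c h₁ h₃

/-- the fibre `F` of a morphism `tt : K' ⟶ K₀` of `D^+_A(O)` inducing isomorphisms on `H^q` for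
`c - d - 1 ≤ q ≤ c` has `H^c(Y, F) = 0` on a good object. -/
lemma subsingleton_fiber (hY : Good O A d Y) {K' K₀ : DerivedCategory (ModSite.Mod O)}
    (tt : K' ⟶ K₀) (hK' : WSerre.cohInPlus A K') (hK₀ : WSerre.cohInPlus A K₀) (c : ℤ)
    (hiso : ∀ q : ℤ, c - d - 1 ≤ q → q ≤ c → IsIso ((homologyFunctor (ModSite.Mod O) q).map tt))
    (F : DerivedCategory (ModSite.Mod O)) (f : F ⟶ K') (δ : K₀ ⟶ F⟦(1 : ℤ)⟧)
    (hT : Triangle.mk f tt δ ∈ distTriang _) :
    Subsingleton (HDUO O F c Y) := by
  obtain ⟨hA', b', hb'⟩ := hK'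
  obtain ⟨hA₀, b₀, hb₀⟩ := hK₀
  have hb' : K'.IsGE b' := hb'
  have hb₀ : K₀.IsGE b₀ := hb₀
  let Tr := Triangle.mk f tt δ
  -- `F` is bounded below
  let b : ℤ := min b' (b₀ + 1)
  have hF : F.IsGE b := by
    rw [isGE_iff]
    intro i hi
    have hex := HomologySequence.exact₁ Tr hT (i - 1) i (by omega)
    refine hex.isZero_of_both_zeros ?_ ?_
    · exact (isZero_of_isGE K₀ b₀ (i - 1) (by
        have := min_le_right b' (b₀ + 1); omega)).eq_of_src _ _
    · exact (isZero_of_isGE K' b' i (by
        have := min_le_left b' (b₀ + 1); omega)).eq_of_tgt _ _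
  refine subsingleton_of_range hY F b hF c ?_ ?_
  · intro q _
    exact Groth.Agent.H45.prop_of_five_term A
      ((homologyFunctor _ (q - 1)).map tt) (HomologySequence.δ Tr (q - 1) q (by omega))
      ((homologyFunctor _ q).map f) ((homologyFunctor _ q).map tt) _ _ _
      (HomologySequence.exact₃ Tr hT (q - 1) q (by omega))
      (HomologySequence.exact₁ Tr hT (q - 1) q (by omega))
      (HomologySequence.exact₂ Tr hT q) (hA' (q - 1)) (hA₀ (q - 1)) (hA' q) (hA₀ q)
  · intro q hq1 hq2
    have hex := HomologySequence.exact₁ Tr hT (q - 1) q (by omega)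
    have i1 : IsIso ((homologyFunctor (ModSite.Mod O) (q - 1)).map tt) :=
      hiso (q - 1) (by omega) (by omega)
    have i2 : IsIso ((homologyFunctor (ModSite.Mod O) q).map tt) := hiso q (by omega) hq2
    refine hex.isZero_of_both_zeros ?_ ?_
    · have h3 : (homologyFunctor (ModSite.Mod O) (q - 1)).map tt ≫
          HomologySequence.δ Tr (q - 1) q (by omega) = 0 :=
        HomologySequence.comp_δ Tr hT (q - 1) q (by omega)
      exact (cancel_epi ((homologyFunctor (ModSite.Mod O) (q - 1)).map tt)).1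
        (h3.trans comp_zero.symm)
    · have h2 : (homologyFunctor (ModSite.Mod O) q).map f ≫
          (homologyFunctor (ModSite.Mod O) q).map tt = 0 := by
        rw [← Functor.map_comp]
        have : f ≫ tt = 0 := comp_distTriang_mor_zero₁₂ _ hT
        rw [this, Functor.map_zero]
      exact (cancel_mono ((homologyFunctor (ModSite.Mod O) q).map tt)).1
        (h2.trans zero_comp.symm)

/-- For a morphism `tt : K' ⟶ K₀` of `D^+_A(O)` inducing isomorphisms on `H^q` for `j - d - 1 ≤ q ≤ j + 1`,
the map `H^j(Y, K') → H^j(Y, K₀)` is bijective and `H^{j-1}(Y, K') → H^{j-1}(Y, K₀)` is surjective on a good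
object `Y`. -/
theorem transition_good (hY : Good O A d Y) {K' K₀ : DerivedCategory (ModSite.Mod O)}
    (tt : K' ⟶ K₀) (hK' : WSerre.cohInPlus A K') (hK₀ : WSerre.cohInPlus A K₀) (j : ℤ)
    (hiso : ∀ q : ℤ, j - d - 1 ≤ q → q ≤ j + 1 →
      IsIso ((homologyFunctor (ModSite.Mod O) q).map tt)) :
    Function.Injective (fun x : HDUO O K' j Y => x ≫ tt⟦j⟧') ∧
    Function.Surjective (fun x : HDUO O K' j Y => x ≫ tt⟦j⟧') ∧
    Function.Surjective (fun x : HDUO O K' (j - 1) Y => x ≫ tt⟦j - 1⟧') := by
  obtain ⟨F, f, δ, hT⟩ := distinguished_cocone_triangle₁ tt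
  have hj : Subsingleton (HDUO O F j Y) :=
    subsingleton_fiber hY tt hK' hK₀ j (fun q h1 h2 => hiso q h1 (by omega)) F f δ hT
  have hj1 : Subsingleton (HDUO O F (j + 1) Y) :=
    subsingleton_fiber hY tt hK' hK₀ (j + 1) (fun q h1 h2 => hiso q (by omega) h2) F f δ hT
  exact ⟨RlimTruncB.comp_injective_of_subsingleton _ hT _ j hj,
    RlimTruncB.comp_surjective_of_subsingleton _ hT _ j (j + 1) rfl hj1,
    RlimTruncB.comp_surjective_of_subsingleton _ hT _ (j - 1) j (by omega) hj⟩

end Groth.Agent.H45.RlimModW
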